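import Cfsg.Agent.H371.Core.Fam
import Cfsg.Agent.H77.E4Tor

/-!
# Cyclic subgroups of order `(v³ - 1)(v + 1)`, `(v³ + 1)(v - 1)` of `F₄(v)` (helper371, task 2624)
-/

set_option autoImplicit false

namespace Cfsg.Agent.H371.Six.F4T

open Cfsg Cfsg.Lie Cfsg.Agent.H129.WData Cfsg.Agent.H378.AdjTab Cfsg.Agent.H493.PGTorus
open Cfsg.Agent.BpExc.RowsUntw Cfsg.Agent.BpExc.FamInst Cfsg.Agent.BpExc.FamExt Cfsg.Agent.H77.E4Tor
open Cfsg.Agent.H129.TorusChar Cfsg.Agent.ChevalleyStructure Cfsg.Agent.ChevalleyStructure.Elts Cfsg.Agent.ChevalleyStructure.CoxeterGeom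
  Cfsg.Agent.ChevalleyStructure.CoxeterGeomTypes Cfsg.Agent.ChevalleyStructure.NPerm Cfsg.Agent.Nodes Cfsg.Agent.Nodes.Reps
  Cfsg.Agent.Nodes.BNOf Cfsg.Agent.Nodes.RGDChev Cfsg.Agent.H493.PGTwist

universe u

def L3 : List (Fin 4 × Mat 4) := [(3, ![![-1, -1, 0, 0], ![1, 0, 0, 0], ![0, 2, 1, 1], ![0, 0, 0, -1]]),
    (1, ![![-1, -1, 0, 0], ![1, 0, 0, 0], ![0, 2, 1, 0], ![0, 0, 0, 1]]),
    (0, ![![-1, 0, 0, 0], ![1, 1, 0, 0], ![0, 0, 1, 0], ![0, 0, 0, 1]])]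

def c3 : Fin (3 + 1) → ℤ := ![-1, -1, 0, 1]

def V3 : Fin (3 + 1) → Fin 4 → ℤ := ![![-1, -1, -1, -1], ![-2, -3, -2, -1], ![-1, -3, -2, -1], ![0, -1, -1, 0]]

def U3 : Fin 4 → ℤ := ![0, 1, -1, -1]

def L6 : List (Fin 4 × Mat 4) := [(2, ![![-1, -1, -1, 0], ![1, 0, 0, 0], ![0, 2, 1, 0], ![0, 0, 1, 1]]),
    (1, ![![-1, -1, 0, 0], ![1, 0, 0, 0], ![0, 2, 1, 0], ![0, 0, 0, 1]]),
    (0, ![![-1, 0, 0, 0], ![1, 1, 0, 0], ![0, 0, 1, 0], ![0, 0, 0, 1]])]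

def c6 : Fin (3 + 1) → ℤ := ![-1, 1, 0, -1]

def V6 : Fin (3 + 1) → Fin 4 → ℤ := ![![-1, -1, -1, -1], ![0, -1, 0, 0], ![-1, -1, -1, 0], ![0, -1, -1, -1]]

def U6 : Fin 4 → ℤ := ![-1, 0, 1, -1]

theorem chain3 : ChainOK H378.AdjF4.Am L3 := by decide +kernel

theorem eig3 : EigOK (hd L3) c3 V3 U3 := by decide +kernel

theorem chain6 : ChainOK H378.AdjF4.Am L6 := by decide +kernel

theorem eig6 : EigOK (hd L6) c6 V6 U6 := by decide +kernel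

theorem tor3 (F : Type u) [Field F] [Finite F] {w : ℕ} (hw : Nat.card F = w + 1) :
    ∃ x : ↥(chevF4.group F), (w * w + 2 * w) * (w * w + 3 * w + 3) ∣ orderOf x := by
  let cs : CoxeterSystem CoxeterMatrix.F₄ CoxeterMatrix.F₄.Group := CoxeterMatrix.F₄.toCoxeterSystem
  have := finite_W f4T cs
  have hq : 2 ≤ Nat.card F := Finite.one_lt_card
  obtain ⟨x, hx⟩ := exists_row f4T cs inv_F4 one_ne_zero H378.AdjF4.hA chain3 eig3 (F := F)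
    (m := (w * w + 2 * w) * (w * w + 3 * w + 3)) (Nat.mul_pos (by nlinarith) (by omega)) (by
      rw [hw]
      simp [pv, c3, Fin.sum_univ_succ]
      exact dvd_of_eq (by ring))
  rw [Nat.gcd_one_left, mul_one] at hx
  exact ⟨x, hx⟩

theorem tor6 (F : Type u) [Field F] [Finite F] {w : ℕ} (hw : Nat.card F = w + 1) :
    ∃ x : ↥(chevF4.group F), (w * w + 2 * w) * (w * w + w + 1) ∣ orderOf x := by
  let cs : CoxeterSystem CoxeterMatrix.F₄ CoxeterMatrix.F₄.Group := CoxeterMatrix.F₄.toCoxeterSystem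
  have := finite_W f4T cs
  have hq : 2 ≤ Nat.card F := Finite.one_lt_card
  obtain ⟨x, hx⟩ := exists_row f4T cs inv_F4 one_ne_zero H378.AdjF4.hA chain6 eig6 (F := F)
    (m := (w * w + 2 * w) * (w * w + w + 1)) (Nat.mul_pos (by nlinarith) (by omega)) (by
      rw [hw]
      simp [pv, c6, Fin.sum_univ_succ]
      exact dvd_of_eq (by ring))
  rw [Nat.gcd_one_left, mul_one] at hx
  exact ⟨x, hx⟩

end Cfsg.Agent.H371.Six.F4T
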