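import Cfsg.Agent.H371.Six.Num

/-!
# BLOCK 6, `q = 5 ^ m`: arithmetic for `³D₄(v)`, `F₄(v)` (helper371, task 2624)

`v = w + 1`, `x = v² - 1`.
-/

set_option autoImplicit false

namespace Cfsg.Agent.H371.Six

open Cfsg.Agent.H376.Six Cfsg.Agent.H60.Six5

variable {q : ℕ}

theorem am_eq {p : ℕ} (hp : q = p + 1) (h4 : am q = q ^ 2 - q + 1) : am q = p * p + p + 1 := by
  rw [h4, hp]
  have : (p + 1) ^ 2 = p * p + p + (p + 1) := by ring
  omega

/-- `v⁶ - 1 ∣ A`, `v⁴ - v² + 1 ∣ B` -/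
theorem t12_false (h : Pow5 q) {x : ℕ} (hx : 3 ≤ x) (hA : x * (x * x + 3 * x + 3) ∣ (q ^ 3 - 1) / 2)
    (hB : x * x + x + 1 ∣ (q ^ 3 + 1) / 2) (hm : am q ∣ x * x + x + 1) (h4 : am q = q ^ 2 - q + 1) : False := by
  have h5 := h.le
  have hAA := h.A
  have hBB := h.B
  obtain ⟨p, hp⟩ : ∃ p, q = p + 1 := ⟨q - 1, by omega⟩
  have e2 := am_eq hp h4
  have hle := Nat.le_of_dvd (by omega) hm
  obtain ⟨y, hy⟩ := hm
  obtain ⟨j, hj⟩ := hB
  obtain ⟨i, hi⟩ := hA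
  have h2B := two_B h h4
  have hy0 : 0 < y := by
    rcases Nat.eq_zero_or_pos y with rfl | h0
    · omega
    · exact h0
  have hj2 : 2 * (y * j) = q + 1 := by
    have h6 : am q * (2 * (y * j)) = am q * (q + 1) := by
      rw [← h2B]
      have h7 : q ^ 3 + 1 = 2 * ((q ^ 3 + 1) / 2) := by omega
      rw [h7, hj, hy]
      ring
    exact Nat.eq_of_mul_eq_mul_left (by rw [e2]; omega) h6
  have hjle : 2 * j ≤ q + 1 := by
    have := Nat.mul_le_mul_right j hy0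
    omega
  obtain ⟨L, hL⟩ : ∃ L, L = x * (x * x + 3 * x + 3) := ⟨_, rfl⟩
  rw [← hL] at hi
  have key : L * j + 2 * j = L * (i * (x + 2)) + (x + 2) := by
    have h6 : (x * x + x + 1) * j = L * i + 1 := by rw [← hj, ← hi]; omega
    have h7 : (x * x + x + 1) * j * (x + 2) = L * j + 2 * j := by rw [hL]; ring
    rw [← h7, h6]
    ring
  have hLx : x + 2 < L := by rw [hL]; nlinarith
  -- `q ≤ x + 1`
  have hpx : p ≤ x := by
    by_contra hlt
    have h9 := Nat.mul_le_mul (show x + 1 ≤ p by omega) (show x + 1 ≤ p by omega)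
    have h10 : (x + 1) * (x + 1) = x * x + 2 * x + 1 := by ring
    omega
  rcases Nat.lt_trichotomy (i * (x + 2)) j with h6 | h6 | h6
  · have h7 := Nat.mul_le_mul_left L (show i * (x + 2) + 1 ≤ j from h6)
    have h8 : L * (i * (x + 2) + 1) = L * (i * (x + 2)) + L := by ring
    omega
  · rw [← h6] at key
    have h7 : 2 * (i * (x + 2)) = x + 2 := by omega
    have h8 : 2 * i * (x + 2) = 1 * (x + 2) := by
      have h9 : 2 * i * (x + 2) = 2 * (i * (x + 2)) := by ring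
      omega
    have := Nat.eq_of_mul_eq_mul_right (by omega) h8
    omega
  · have h7 := Nat.mul_le_mul_left L (show j + 1 ≤ i * (x + 2) from h6)
    have h8 : L * (j + 1) = L * j + L := by ring
    omega

/-- `v² - 1 ∣ q - 1` -/
theorem small_x (h : Pow5 q) {x TB : ℕ} (hx : 3 ≤ x) (hxq : x + 1 ≠ q) (hd : x ∣ q - 1)
    (hT : TB ≤ x * x + 2 * x + 2) (hT0 : 0 < TB) (hm : am q ∣ TB) (h4 : am q = q ^ 2 - q + 1) : False := by
  have h5 := h.le
  obtain ⟨p, hp⟩ : ∃ p, q = p + 1 := ⟨q - 1, by omega⟩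
  have e2 := am_eq hp h4
  have hle := Nat.le_of_dvd hT0 hm
  rw [hp, Nat.add_sub_cancel] at hd
  obtain ⟨c, hc⟩ := hd
  have hc2 : 2 ≤ c := by
    have h0 : c ≠ 0 := by rintro rfl; omega
    have h1 : c ≠ 1 := by rintro rfl; omega
    omega
  have h6 : x * 2 ≤ p := hc ▸ Nat.mul_le_mul_left x hc2
  have h7 := Nat.mul_le_mul h6 h6
  have h8 : x * 2 * (x * 2) = 4 * (x * x) := by ring
  have h9 := Nat.mul_le_mul hx hx
  omega

/-- `v⁴ - 1 ∣ A`, `v⁴ + 1 ∣ B` -/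
theorem t8_false (h : Pow5 q) {x : ℕ} (hx : 3 ≤ x) (hA : x * (x + 2) ∣ (q ^ 3 - 1) / 2)
    (hB : x * x + 2 * x + 2 ∣ (q ^ 3 + 1) / 2) (hm : am q ∣ x * x + 2 * x + 2) (h4 : am q = q ^ 2 - q + 1) :
    False := by
  have h5 := h.le
  obtain ⟨p, hp⟩ : ∃ p, q = p + 1 := ⟨q - 1, by omega⟩
  have e2 := am_eq hp h4
  have hle := Nat.le_of_dvd (by omega) hm
  have hs := size h hA hB (D := 2) (Or.inl (by ring)) (by nlinarith) le_rfl
  have h6 : q ^ 3 + 1 = (p * p + p + 1) * (p + 2) := by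
    have h7 := two_B h h4
    rw [h7, e2, hp]
  rw [h6] at hs
  have hp4 : 4 ≤ p := by omega
  obtain ⟨T, hT⟩ : ∃ T, T = x * (x + 2) := ⟨_, rfl⟩
  have hT2 : x * x + 2 * x + 2 = T + 2 := by rw [hT]; ring
  rw [hT2] at hs hle
  rw [← hT] at hs
  rw [e2] at hle
  have h7 : T * (T + 2) ≤ T + (p * p + p + 1) * (p + 2) := by omega
  have h8 : (T + 1) * (T + 1) ≤ (T + 1) * (p + 3) := by nlinarith
  have h9 := Nat.le_of_mul_le_mul_left h8 (by omega)
  nlinarith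

theorem f4_pair (h : Pow5 q) {x TA TB : ℕ} (hx : 3 ≤ x) (hxq : x + 1 ≠ q)
    (hT : (TA = x * x + x + 1 ∧ TB = x * x + 2 * x + 2) ∨ (TB = x * x + x + 1 ∧ TA = x * x + 2 * x + 2))
    (hA : TA ∣ (q ^ 3 - 1) / 2) (hB : TB ∣ (q ^ 3 + 1) / 2) (h1 : ap q ∣ TA) (h2 : am q ∣ TB) : False := by
  have h5 := h.le
  have hD : TB = TA + (x + 1) ∨ TA = TB + (x + 1) := by
    rcases hT with ⟨rfl, rfl⟩ | ⟨rfl, rfl⟩
    · left; ring
    · right; ring
  have hprod : TA * TB = (x * x + x + 1) * (x * x + 2 * x + 2) := by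
    rcases hT with ⟨rfl, rfl⟩ | ⟨rfl, rfl⟩ <;> ring
  have hTA1 : 1 < TA := by rcases hT with ⟨rfl, rfl⟩ | ⟨rfl, rfl⟩ <;> nlinarith
  have hTB1 : 1 < TB := by rcases hT with ⟨rfl, rfl⟩ | ⟨rfl, rfl⟩ <;> nlinarith
  have hTAle : TA ≤ x * x + 2 * x + 2 := by rcases hT with ⟨rfl, rfl⟩ | ⟨rfl, rfl⟩ <;> omega
  have hs := size h hA hB hD hTA1 (by omega)
  -- `x + 1 < q`
  have hxlt : x + 2 ≤ q := by
    by_contra hlt
    have hxq' : q ≤ x := by omega
    have h6 : 2 * (TA * TB) ≤ 2 * (x * x + 2 * x + 2) + (x + 1) * (x ^ 3 + 1) := by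
      refine hs.trans (Nat.add_le_add (by omega) (Nat.mul_le_mul_left _ ?_))
      have := Nat.pow_le_pow_left hxq' 3
      omega
    rw [hprod] at h6
    have e := fun k : ℕ => Nat.zero_le (x ^ k)
    nlinarith [e 1, e 2, e 3, e 4]
  have hlt : 3 * (TA * TB) < 2 * (q ^ 4 + q ^ 2 + 1) := by
    obtain ⟨p, hp⟩ : ∃ p, q = p + 1 := ⟨q - 1, by omega⟩
    have hxp : x + 1 ≤ p := by omega
    have h6 : x * x + 2 * x + 2 ≤ p * p + 1 := by
      have h7 := Nat.mul_le_mul hxp hxp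
      have h8 : (x + 1) * (x + 1) = x * x + 2 * x + 1 := by ring
      omega
    have h7 : (x + 1) * (q ^ 3 + 1) ≤ p * (q ^ 3 + 1) := Nat.mul_le_mul_right _ hxp
    have h8 : 6 * (TA * TB) ≤ 6 * (p * p + 1) + 3 * (p * (q ^ 3 + 1)) := by omega
    have h9 : 6 * (p * p + 1) + 3 * (p * (q ^ 3 + 1)) < 4 * (q ^ 4 + q ^ 2 + 1) := by
      rw [hp]
      have e := fun k : ℕ => Nat.zero_le (p ^ k)
      nlinarith [e 1, e 2, e 3, e 4]
    omega
  obtain ⟨a, b, ha, hb, hab, ha0, hb0⟩ := eq_of_small h h1 h2 hlt (by omega) (by omega)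
  have ha1 : a = 1 := by
    by_contra hne
    have := Nat.mul_le_mul (show 2 ≤ a by omega) (show 1 ≤ b by omega)
    omega
  have hb1 : b = 1 := by
    by_contra hne
    have := Nat.mul_le_mul (show 1 ≤ a by omega) (show 2 ≤ b by omega)
    omega
  rw [ha1, mul_one] at ha
  rw [hb1, mul_one] at hb
  have hd := diff_ge h (D := x + 1) (by rw [← ha, ← hb]; exact hD.symm)
  obtain ⟨k, rfl⟩ : ∃ k, q = k + 5 := ⟨q - 5, by omega⟩
  have e2 : k + 5 - 1 = k + 4 := by omega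
  rw [e2] at hd
  nlinarith

theorem cop36 (w : ℕ) : Nat.Coprime (w * w + 3 * w + 3) (w * w + w + 1) := by
  refine Nat.coprime_of_dvd fun r hr h1 h2 => ?_
  have h3 : r ∣ 2 * (w + 1) := by
    have : w * w + 3 * w + 3 = (w * w + w + 1) + 2 * (w + 1) := by ring
    rw [this] at h1
    exact (Nat.dvd_add_right h2).1 h1
  have h4 : ¬ r ∣ w + 1 := by
    intro h4
    have : w * w + w + 1 = (w + 1) * w + 1 := by ring
    rw [this] at h2
    exact hr.one_lt.ne' (Nat.dvd_one.1 ((Nat.dvd_add_right (h4.mul_right _)).1 h2))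
  have h5 := (hr.dvd_mul.1 h3).resolve_right h4
  rw [(Nat.prime_dvd_prime_iff_eq hr Nat.prime_two).1 h5] at h2 h4
  have h7 : (w * w + w) % 2 = 0 := by
    have : w * w + w = w * (w + 1) := by ring
    rw [this]
    exact Nat.even_iff.1 (Nat.even_mul_succ_self w)
  omega

/-- **`v² - 1 ∣ A`, `v⁴ - v² + 1 ∣ B`.** -/
theorem low12 (h : Pow5 q) {w x g1 g2 : ℕ} (hw : 1 ≤ w) (hxw : x = w * w + 2 * w)
    (hpar : (w + 1) % 2 = 1 ∨ (w + 1) % 3 ≠ 0) (hxq : x + 1 ≠ q)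
    (hxA : x ∣ (q ^ 3 - 1) / 2) (d1 : x * (w * w + 3 * w + 3) ∣ g1) (d2 : x * (w * w + w + 1) ∣ g2)
    (u1 : Ub q g1) (u2 : Ub q g2) (hB : x * x + x + 1 ∣ (q ^ 3 + 1) / 2) (hm : am q ∣ x * x + x + 1) : False := by
  have hx3 : 3 ≤ x := by rw [hxw]; nlinarith
  obtain ⟨h25, h3, h4⟩ := even_of h hpar (by
    have e0 : (w + 1) ^ 2 - 1 = x := by
      have : (w + 1) ^ 2 = w * w + 2 * w + 1 := by ring
      omega
    rw [e0]
    exact hxA)
  rcases sub_or h hxA ((Dvd.intro _ rfl).trans d1) u1 with k1 | k1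
  · rcases sub_or h hxA ((Dvd.intro _ rfl).trans d2) u2 with k2 | k2
    · refine t12_false h hx3 ?_ hB hm h4
      have k3 := d1.trans k1
      have k4 := d2.trans k2
      obtain ⟨A', hA'⟩ := hxA
      rw [hA'] at k3 k4 ⊢
      have k5 := Nat.dvd_of_mul_dvd_mul_left (by omega) k3
      have k6 := Nat.dvd_of_mul_dvd_mul_left (by omega) k4
      have k7 := (cop36 w).mul_dvd_of_dvd_of_dvd k5 k6
      refine Nat.mul_dvd_mul_left x ?_
      have e1 : x * x + 3 * x + 3 = (w * w + 3 * w + 3) * (w * w + w + 1) := by rw [hxw]; ring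
      rw [e1]
      exact k7
    · exact small_x h hx3 hxq k2 (by omega) (by omega) hm h4
  · exact small_x h hx3 hxq k1 (by omega) (by omega) hm h4

/-- **`v² - 1 ∣ A`, `v⁴ + 1 ∣ B`**, `v` even. -/
theorem low8 (h : Pow5 q) {w x g : ℕ} (hw : 1 ≤ w) (hxw : x = w * w + 2 * w) (hev : (w + 1) % 2 = 0)
    (hpar : (w + 1) % 3 ≠ 0) (hxq : x + 1 ≠ q)
    (hxA : x ∣ (q ^ 3 - 1) / 2) (d1 : x ∣ g) (d2 : x + 2 ∣ g)
    (u : Ub q g) (hB : x * x + 2 * x + 2 ∣ (q ^ 3 + 1) / 2) (hm : am q ∣ x * x + 2 * x + 2) : False := by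
  have hx3 : 3 ≤ x := by rw [hxw]; nlinarith
  obtain ⟨h25, h3, h4⟩ := even_of h (v := w + 1) (Or.inr hpar) (by
    have e0 : (w + 1) ^ 2 - 1 = x := by
      have : (w + 1) ^ 2 = w * w + 2 * w + 1 := by ring
      omega
    rw [e0]
    exact hxA)
  rcases sub_or h hxA d1 u with k1 | k1
  · refine t8_false h hx3 (Nat.Coprime.mul_dvd_of_dvd_of_dvd ?_ hxA (d2.trans k1)) hB hm h4
    have hodd : x % 2 = 1 := by
      have h6 : w % 2 = 1 := by omega
      have h7 : w * w % 2 = 1 := by rw [Nat.mul_mod, h6]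
      omega
    rw [Nat.coprime_self_add_right]
    exact Nat.coprime_two_right.2 (Nat.odd_iff.2 hodd)
  · exact small_x h hx3 hxq k1 le_rfl (by omega) hm h4

end Cfsg.Agent.H371.Six
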