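import Cfsg.Agent.H371.Six.G2
import Cfsg.Agent.H371.Six.NumB
import Cfsg.Agent.H371.Six.F4T
import Cfsg.Agent.S1062

/-!
# BLOCK 6, `q = 5 ^ m`: `F₄(v)`, `5 ∤ v` (helper371, task 2624)
-/

set_option autoImplicit false
set_option linter.unusedSectionVars false

namespace Cfsg.Agent.H371.Six

open Cfsg Cfsg.Lie Cfsg.Agent.H376.Six Cfsg.Agent.H60.Six5 Cfsg.Agent.H378.ExcAdj Cfsg.Agent.H371.CycEval
open Cfsg.Agent.H371.Core (Tor tor_F4_8 tor_F4_12)

universe u

variable {q : ℕ}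

theorem ne_q' (h : Pow5 q) {w : ℕ} (h5 : ¬ 5 ∣ w + 1) : w * w + 2 * w + 1 ≠ q := by
  have := ne_q h h5 2
  intro h1
  apply this
  rw [← h1]
  ring

/-- `v² + 1`, 25 -/
theorem no_25' (h : Pow5 q) {x N : ℕ} (hx : 3 ≤ x) (h25 : 25 ∣ x + 2) (h1 : x ∣ N) (hd : x + 2 ∣ N) (hu : Ub q N) :
    False := by
  have h2 := eq_25 h (h25.trans hd) hu
  rw [h2] at hd h1
  have h3 := Nat.dvd_antisymm hd h25
  have h4 : x = 23 := by omega
  rw [h4] at h1
  norm_num at h1

set_option maxHeartbeats 1000000 in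
/-- **`F₄(v)`** -/
theorem f4 {F : Type u} [Field F] [Fintype F] (h5 : ¬ 5 ∣ Fintype.card F)
    (h : E5 q ↥(Cfsg.Lie.chevF4.group F)) : False := by
  have P := pow5 h.pow
  have hq5 := P.le
  obtain ⟨u, n, hu, hn, hc, hch, hpar⟩ := char_facts F
  have hF : 2 ≤ Fintype.card F := Fintype.one_lt_card
  obtain ⟨w, hw⟩ : ∃ w, Fintype.card F = w + 1 := ⟨Fintype.card F - 1, by omega⟩
  have hw' : Nat.card F = w + 1 := by rw [Nat.card_eq_fintype_card, hw]
  have hw1 : 1 ≤ w := by omega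
  obtain ⟨x, hx⟩ : ∃ x, x = w * w + 2 * w := ⟨_, rfl⟩
  have hx3 : 3 ≤ x := by rw [hx]; nlinarith
  have hv2 : (w + 1) ^ 2 = x + 1 := by rw [hx]; ring
  have h8 : (((ev 8 (Nat.card F : ℕ)).natAbs : ℕ) : ℤ) = (Nat.card F : ℤ) ^ 4 + 1 := by
    rw [← ev8, Int.natCast_natAbs, abs_of_pos (ev_pos (by norm_num) _)]
  have h12 : (((ev 12 (Nat.card F : ℕ)).natAbs : ℕ) : ℤ) = (Nat.card F : ℤ) ^ 4 - (Nat.card F : ℤ) ^ 2 + 1 := by
    rw [← ev12, Int.natCast_natAbs, abs_of_pos (ev_pos (by norm_num) _)]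
  have T8 := tor_F4_8 F
  have T12 := tor_F4_12 F
  have h8' : (ev 8 (Nat.card F : ℕ)).natAbs = x * x + 2 * x + 2 := by
    have : ((x * x + 2 * x + 2 : ℕ) : ℤ) = (Nat.card F : ℤ) ^ 4 + 1 := by
      rw [hw', hx]; push_cast; ring
    rw [← this] at h8
    exact_mod_cast h8
  have h12' : (ev 12 (Nat.card F : ℕ)).natAbs = x * x + x + 1 := by
    have : ((x * x + x + 1 : ℕ) : ℤ) = (Nat.card F : ℤ) ^ 4 - (Nat.card F : ℤ) ^ 2 + 1 := by
      rw [hw', hx]; push_cast; ring
    rw [← this] at h12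
    exact_mod_cast h12
  rw [h8', hw'] at T8
  rw [h12', hw'] at T12
  obtain ⟨x1, hx1, hx2⟩ := Cfsg.Agent.H77.E4Tor.tor_F4 F
  have e1 : Nat.card F ^ 2 - 1 = x := by rw [hw', hv2]; rfl
  have e2 : Nat.card F ^ 2 + 1 = x + 2 := by rw [hw', hv2]
  rw [e1] at hx1
  rw [e2] at hx2
  obtain ⟨y1, hy1⟩ := F4T.tor3 F hw'
  obtain ⟨y2, hy2⟩ := F4T.tor6 F hw'
  rw [← hx] at hy1 hy2
  have ux := h.ub' ⟨x1, rfl⟩
  have u1 := h.ub' ⟨y1, rfl⟩
  have u2 := h.ub' ⟨y2, rfl⟩
  rw [hw] at h5 hpar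
  have hxq : x + 1 ≠ q := hx ▸ ne_q' P h5
  -- all the tori
  have hT : ∀ m, m = 8 ∨ m = 12 → ∃ T, Tor ↥(chevF4.group F) (w + 1) m T ∧
      (m = 8 → T = x * x + 2 * x + 2) ∧ (m = 12 → T = x * x + x + 1) := by
    rintro m (rfl | rfl)
    · exact ⟨_, T8, fun _ => rfl, fun h => absurd h (by norm_num)⟩
    · exact ⟨_, T12, fun h => absurd h (by norm_num), fun _ => rfl⟩
  rcases h.five with ⟨hap, ham, -⟩ | ⟨g, hg⟩
  · have hcap : ap q ∣ Nat.card ↥(chevF4.group F) := by
      obtain ⟨x, hx⟩ := hap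
      rw [← hx]; exact orderOf_dvd_natCard x
    have hcam : am q ∣ Nat.card ↥(chevF4.group F) := by
      obtain ⟨x, hx⟩ := ham
      rw [← hx]; exact orderOf_dvd_natCard x
    obtain ⟨s, hs, hsd⟩ := exists_am P
    have hod : od (w + 1) s = 8 ∨ od (w + 1) s = 12 := by
      rw [← hw']
      rcases adj_F4 F hs (hsd.trans hcam) with h1 | h1 | h1
      · exact absurd h1 (am_ne (by omega) hs hsd).1
      · exact absurd h1 (not_adj_two P h hs hsd)
      · exact h1
    obtain ⟨TB, hTB, hTB8, hTB12⟩ := hT _ hod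
    have hamB : am q ∣ TB := dvd_of_cent ham hsd fun x hx => (hTB.ct s hs rfl x hx).dvd
    have hBB : TB ∣ (q ^ 3 + 1) / 2 := dvd_B P hs hsd (hTB.dv s hs rfl) (h.ub' hTB.ex)
    have hTBv : TB = x * x + 2 * x + 2 ∨ TB = x * x + x + 1 := hod.imp hTB8 hTB12
    have hne : Nonempty chevF4.Idx := ⟨Sum.inl ⟨0, by decide⟩⟩
    have hidx : Fintype.card chevF4.Idx ≤ 52 := by
      rw [Fintype.card_sum, Fintype.card_fin, Fintype.card_fin]; decide +kernel
    obtain ⟨r, hr, hrd, hru⟩ := exists_r P hu (K := F) hidx (ρ := (chevF4.group F).subtype)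
      (Subgroup.subtype_injective _) hap (v := w + 1) (N := TB)
      (by rw [← hw, hc]; exact Nat.le_self_pow hn.ne' u)
      (by
        have : (w + 1) * (w + 1) = x + 1 := by rw [hx]; ring
        have : x ≤ x * x := Nat.le_mul_self x
        rcases hTBv with h1 | h1 <;> omega) hBB
    have hrv : ¬ r ∣ w + 1 := by
      intro h1
      rw [← hw, hc] at h1
      exact hru ((Nat.prime_dvd_prime_iff_eq hr hu).1 (hr.dvd_of_dvd_pow h1))
    have hr24 : od (w + 1) r ∣ 8 ∨ od (w + 1) r ∣ 12 := by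
      have h1 := hrd.trans hcap
      rw [Cfsg.Agent.S1062.result hw] at h1
      rcases hr.dvd_mul.1 h1 with h2 | h2
      · rcases hr.dvd_mul.1 h2 with h2 | h2
        · rcases hr.dvd_mul.1 h2 with h2 | h2
          · rcases hr.dvd_mul.1 h2 with h2 | h2
            · exact absurd (hr.dvd_of_dvd_pow h2) hrv
            · exact Or.inl ((od_dvd (by omega) h2).trans (by norm_num))
          · exact Or.inr ((od_dvd (by omega) h2).trans (by norm_num))
        · exact Or.inl (od_dvd (by omega) h2)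
      · exact Or.inr (od_dvd (by omega) h2)
    have hod' : od (w + 1) r ∣ 4 ∨ od (w + 1) r = 3 ∨ od (w + 1) r = 6 ∨ od (w + 1) r = 8 ∨
        od (w + 1) r = 12 := by
      rcases hr24 with h1 | h1
      · have : od (w + 1) r ∈ Nat.divisors 8 := Nat.mem_divisors.2 ⟨h1, by norm_num⟩
        rw [show Nat.divisors 8 = {1, 2, 4, 8} by decide] at this
        simp only [Finset.mem_insert, Finset.mem_singleton] at this
        rcases this with h | h | h | h <;> rw [h] <;> norm_num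
      · have : od (w + 1) r ∈ Nat.divisors 12 := Nat.mem_divisors.2 ⟨h1, by norm_num⟩
        rw [show Nat.divisors 12 = {1, 2, 3, 4, 6, 12} by decide] at this
        simp only [Finset.mem_insert, Finset.mem_singleton] at this
        rcases this with h | h | h | h | h | h <;> rw [h] <;> norm_num
    have hlow : x ∣ (q ^ 3 - 1) / 2 → False := by
      intro hxA
      rcases hod with h1 | h1
      · rw [hTB8 h1] at hBB hamB
        have hev : (w + 1) % 2 = 0 := by
          by_contra hne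
          apply B_odd P
          refine dvd_trans ?_ hBB
          have h2 : (w + 1) ^ 2 % 2 = 1 := by rw [Nat.pow_mod, show (w + 1) % 2 = 1 by omega]
          rw [hv2] at h2
          have h3 : 2 ∣ x := by omega
          exact (((h3.mul_right x).add (Dvd.intro _ rfl)).add dvd_rfl)
        exact low8 P hw1 hx hev (by omega) hxq hxA hx1 hx2 ux hBB hamB
      · rw [hTB12 h1] at hBB hamB
        exact low12 P hw1 hx hpar hxq hxA hy1 hy2 u1 u2 hBB hamB
    have h1le : 1 ≤ (w + 1) ^ 2 := Nat.one_le_pow _ _ (by omega)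
    rcases hod' with h1 | h1 | h1 | h1
    · have h2 : r ∣ (w + 1) ^ 4 - 1 := dvd_of_od_dvd (by omega) h1
      have e4 : (w + 1) ^ 4 - 1 = x * (x + 2) := by
        have : (w + 1) ^ 4 = x * (x + 2) + 1 := by rw [hx]; ring
        omega
      rw [e4] at h2
      have h3 : r ∣ orderOf x1 := (hr.dvd_mul.1 h2).elim (fun h => h.trans hx1) fun h => h.trans hx2
      exact hlow (hx1.trans (dvd_A P hr hrd h3 ux))
    · have h2 : r ∣ (w + 1) ^ 3 - 1 := dvd_of_od_dvd (by omega) (by rw [h1])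
      have e3 : (w + 1) ^ 3 - 1 = w * (w * w + 3 * w + 3) := by
        have : (w + 1) ^ 3 = w * (w * w + 3 * w + 3) + 1 := by ring
        omega
      rw [e3] at h2
      have h3 : r ∣ orderOf y1 := h2.trans (dvd_trans (Nat.mul_dvd_mul_right
        (by rw [hx]; exact ⟨w + 2, by ring⟩) _) hy1)
      exact hlow ((Dvd.intro _ rfl).trans (hy1.trans (dvd_A P hr hrd h3 u1)))
    · have h2 : r ∣ (w + 1) ^ 6 - 1 := dvd_of_od_dvd (by omega) (by rw [h1])
      have e3 : (w + 1) ^ 6 - 1 = (w * (w * w + 3 * w + 3)) * ((w + 2) * (w * w + w + 1)) := by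
        have : (w + 1) ^ 6 = (w * (w * w + 3 * w + 3)) * ((w + 2) * (w * w + w + 1)) + 1 := by ring
        omega
      rw [e3] at h2
      rcases hr.dvd_mul.1 h2 with h3 | h3
      · have h4 : r ∣ orderOf y1 := h3.trans (dvd_trans (Nat.mul_dvd_mul_right
          (by rw [hx]; exact ⟨w + 2, by ring⟩) _) hy1)
        exact hlow ((Dvd.intro _ rfl).trans (hy1.trans (dvd_A P hr hrd h4 u1)))
      · have h4 : r ∣ orderOf y2 := h3.trans (dvd_trans (Nat.mul_dvd_mul_right
          (by rw [hx]; exact ⟨w, by ring⟩) _) hy2)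
        exact hlow ((Dvd.intro _ rfl).trans (hy2.trans (dvd_A P hr hrd h4 u2)))
    · obtain ⟨TA, hTA, hTA8, hTA12⟩ := hT _ h1
      have hapA : ap q ∣ TA := dvd_of_cent hap hrd fun x hx => (hTA.ct r hr rfl x hx).dvd
      have hAA : TA ∣ (q ^ 3 - 1) / 2 := dvd_A P hr hrd (hTA.dv r hr rfl) (h.ub' hTA.ex)
      have key : TA = TB → False := by
        intro k4
        have k5 := Nat.eq_one_of_dvd_coprimes (coprime_half P.two) (k4 ▸ hAA) hBB
        have := am_ge P
        have := Nat.le_of_dvd (by omega) hamB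
        omega
      rcases h1 with h1 | h1 <;> rcases hod with h2 | h2
      · exact key (by rw [hTA8 h1, hTB8 h2])
      · exact f4_pair P hx3 hxq (Or.inr ⟨hTB12 h2, hTA8 h1⟩) hAA hBB hapA hamB
      · exact f4_pair P hx3 hxq (Or.inl ⟨hTA12 h1, hTB8 h2⟩) hAA hBB hapA hamB
      · exact key (by rw [hTA12 h1, hTB12 h2])
  · have h25 : 25 ∣ (w + 1) ^ 4 - 1 := by
      rw [← hw]
      exact five_dvd (by rw [hw]; exact h5) (chevF4, [2, 6, 8, 12]) (by simp) (by norm_num) hg
    rcases mod5_cases h5 with h1 | h1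
    · have h2 := dvd_25 (by omega) h25 h1
      exact no_25 P h2 (by omega) (by rw [hv2]; exact hx1) ux
    · have e4 : (w + 1) ^ 4 - 1 = x * (x + 2) := by
        have : (w + 1) ^ 4 = x * (x + 2) + 1 := by rw [hx]; ring
        omega
      rw [e4] at h25
      refine no_25' P hx3 (Nat.Coprime.dvd_of_dvd_mul_left ?_ h25) hx1 hx2 ux
      rw [show 25 = 5 ^ 2 by norm_num]
      exact Nat.Coprime.pow_left 2 ((Nat.Prime.coprime_iff_not_dvd Nat.prime_five).2 (by omega))

end Cfsg.Agent.H371.Six
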